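import Mathlib.Tactic

/-! Small linear algebra helpers (helper21). -/

set_option autoImplicit false
universe u v w

namespace Groth.Agent.Lib.Helper21.LinAlg

variable {k : Type u} [Field k] {E : Type v} [AddCommGroup E] [Module k E] [FiniteDimensional k E]

/-- Between two nested subspaces one finds subspaces of every intermediate dimension. -/
lemma exists_between_finrank_eq (A B : Submodule k E) (hAB : A ≤ B) (d : ℕ)
    (h1 : Module.finrank k A ≤ d) (h2 : d ≤ Module.finrank k B) :
    ∃ C : Submodule k E, A ≤ C ∧ C ≤ B ∧ Module.finrank k C = d := by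
  obtain ⟨j, rfl⟩ := Nat.exists_eq_add_of_le h1
  induction j generalizing A with
  | zero => exact ⟨A, le_rfl, hAB, by simp⟩
  | succ j ih =>
    have hlt : Module.finrank k A < Module.finrank k B := by omega
    have hne : A ≠ B := by
      intro h; rw [h] at hlt; exact lt_irrefl _ hlt
    obtain ⟨v, hvB, hvA⟩ := SetLike.exists_of_lt (lt_of_le_of_ne hAB hne)
    have hv0 : v ≠ 0 := by
      intro h; apply hvA; rw [h]; exact A.zero_mem
    set A' := A ⊔ k ∙ v with hA'
    have hdisj : A ⊓ (k ∙ v) = ⊥ :=
      disjoint_iff.mp ((Submodule.disjoint_span_singleton' hv0).mpr hvA)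
    have hfr : Module.finrank k A' = Module.finrank k A + 1 := by
      have := Submodule.finrank_sup_add_finrank_inf_eq A (k ∙ v)
      rw [hdisj, finrank_bot, add_zero, finrank_span_singleton hv0] at this
      exact this
    have hA'B : A' ≤ B := sup_le hAB ((Submodule.span_singleton_le_iff_mem v B).mpr hvB)
    obtain ⟨C, hC1, hC2, hC3⟩ := ih A' hA'B (by omega) (by omega)
    exact ⟨C, le_trans le_sup_left hC1, hC2, by rw [hC3, hfr]; ring⟩

/-- The preimage of a subspace under a map between spaces of equal dimension has at least
the dimension of the subspace. -/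
lemma finrank_le_finrank_comap {E₁ : Type v} {E₂ : Type w} [AddCommGroup E₁] [Module k E₁]
    [FiniteDimensional k E₁] [AddCommGroup E₂] [Module k E₂] [FiniteDimensional k E₂]
    (hdim : Module.finrank k E₁ = Module.finrank k E₂) (g : E₂ →ₗ[k] E₁) (V : Submodule k E₁) :
    Module.finrank k V ≤ Module.finrank k (Submodule.comap g V) := by
  let q := (Submodule.comap g V).mapQ V g le_rfl
  have hq : Function.Injective q := by
    rw [← LinearMap.ker_eq_bot, Submodule.ker_mapQ]
    simp
  have h1 := LinearMap.finrank_le_finrank_of_injective hq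
  have h2 := Submodule.finrank_quotient_add_finrank (Submodule.comap g V)
  have h3 := Submodule.finrank_quotient_add_finrank V
  omega

end Groth.Agent.Lib.Helper21.LinAlg
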