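import Mathlib.AlgebraicGeometry.IdealSheaf.Basic

/-! Kernel ideal sheaf of a morphism from a reduced scheme (helper21). -/

set_option autoImplicit false
universe u

open CategoryTheory Opposite AlgebraicGeometry

namespace Groth.Agent.Lib.Helper21.SchKer

open Scheme Scheme.IdealSheafData

set_option backward.defeqAttrib.useBackward true in
set_option backward.isDefEq.respectTransparency false in
/-- For a morphism out of a reduced scheme, the kernel ideal sheaf is computed by the componentwise
kernels on affine opens (no quasi-compactness needed). -/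
lemma ker_apply_of_isReduced {X Y : Scheme.{u}} [IsReduced X] (f : X ⟶ Y) (U : Y.affineOpens) :
    f.ker.ideal U = RingHom.ker (f.app U).hom := by
  let I : IdealSheafData Y := ⟨fun U ↦ RingHom.ker (f.app U).hom, ?_, _, rfl⟩
  · exact congr($(ofIdeals_ideal I).ideal U)
  intro U s
  apply le_antisymm
  · refine Ideal.map_le_iff_le_comap.mpr fun x hx ↦ ?_
    simp_rw [RingHom.comap_ker, ← CommRingCat.hom_comp, Scheme.affineBasicOpen_coe, f.naturality,
      CommRingCat.hom_comp, ← RingHom.comap_ker]
    exact Ideal.ker_le_comap _ hx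
  · intro x hx
    have := U.2.isLocalization_basicOpen s
    obtain ⟨x, ⟨_, n, rfl⟩, rfl⟩ := IsLocalization.exists_mk'_eq (.powers s) x
    refine (IsLocalization.mk'_mem_map_algebraMap_iff _ _ _ _ _).mpr ?_
    suffices ∃ (V : X.Opens) (hV : V = X.basicOpen ((f.app U).hom s)),
        letI := hV.trans_le (X.basicOpen_le _); ((f.app U).hom x |_ V) = 0 by
      obtain ⟨_, rfl, H⟩ := this
      refine ⟨s, ⟨1, pow_one s⟩, ?_⟩
      rw [RingHom.mem_ker, map_mul]
      apply eq_zero_of_basicOpen_eq_bot
      rw [Scheme.basicOpen_mul]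
      have H2 := congrArg (fun t => X.basicOpen t) H
      simp only [Scheme.basicOpen_zero] at H2
      rw [← H2]
      rw [TopCat.Presheaf.restrictOpen, TopCat.Presheaf.restrict]
      erw [Scheme.basicOpen_res]
    refine ⟨f ⁻¹ᵁ Y.basicOpen s, by simp, ?_⟩
    replace hx : (Y.presheaf.map (homOfLE (Y.basicOpen_le s)).op ≫ f.app _).hom x = 0 := by
      trans (f.app (Y.basicOpen s)).hom (algebraMap Γ(Y, U) _ x)
      · simp [-NatTrans.naturality, RingHom.algebraMap_toAlgebra]
      · simp only [Scheme.affineBasicOpen_coe, RingHom.mem_ker] at hx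
        rw [← IsLocalization.mk'_spec' (M := .powers s), map_mul, hx, mul_zero]
    rwa [f.naturality] at hx

end Groth.Agent.Lib.Helper21.SchKer

namespace Groth.Agent.Lib.Helper21.SchKer

open Scheme Scheme.IdealSheafData

/-- For a morphism out of a reduced scheme, the support of the kernel ideal sheaf is the closure of
the image (no quasi-compactness needed). -/
lemma support_ker_of_isReduced {X Y : Scheme.{u}} [IsReduced X] (f : X ⟶ Y) :
    (f.ker.support : Set Y) = closure (Set.range f) := by
  apply subset_antisymm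
  · intro y hy
    obtain ⟨_, ⟨U, hU, rfl⟩, hyU, -⟩ :=
      Y.isBasis_affineOpens.exists_subset_of_mem_open (Set.mem_univ y) isOpen_univ
    have h1 : y ∈ (f.ker.support : Set Y) ∩ U := ⟨hy, hyU⟩
    rw [coe_support_inter f.ker ⟨U, hU⟩] at h1
    have h2 := (Scheme.mem_zeroLocus_iff _ _ _).mp h1.1
    rw [ker_apply_of_isReduced f ⟨U, hU⟩] at h2
    rw [mem_closure_iff]
    intro O hO hyO
    obtain ⟨g, hgO, hyg⟩ := hU.exists_basicOpen_le (V := ⟨O, hO⟩) ⟨y, hyO⟩ hyU
    by_contra hempty
    apply h2 g _ hyg
    rw [SetLike.mem_coe, RingHom.mem_ker]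
    apply eq_zero_of_basicOpen_eq_bot
    rw [← Scheme.preimage_basicOpen]
    ext x
    constructor
    · intro hx
      exact absurd ⟨f x, hgO hx, ⟨x, rfl⟩⟩ hempty
    · intro hx
      exact absurd hx (by simp)
  · rw [(f.ker.support).isClosed.closure_subset_iff]
    exact f.range_subset_ker_support

end Groth.Agent.Lib.Helper21.SchKer
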